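import Groth.Agent.FrobLCI.HK.Restrict
import Groth.Agent.MonConj.Growth

/-!
Existence and positivity of Hilbert-Kunz multiplicities.
-/

universe u

namespace Groth.FrobLCI.HK

open IsLocalRing Filter Topology

variable (p : ℕ) [Fact p.Prime] {A : Type u} [CommRing A] [CharP A p]

theorem fr_fr (a : Ideal A) (e k : ℕ) : fr p (fr p a e) k = fr p a (e + k) := by
  rw [fr, fr, Ideal.map_map]
  congr 1
  exact RingHom.ext fun x => by simp [iterateFrobenius_def, pow_add, pow_mul]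

variable [IsLocalRing A] [IsNoetherianRing A]

theorem exists_pow_le_fr {a : Ideal A} {N : ℕ} (ha : maximalIdeal A ^ N ≤ a) (e : ℕ) :
    ∃ M, maximalIdeal A ^ M ≤ fr p a e := by
  refine Ideal.exists_pow_le_of_le_radical_of_fg (fun x hx => ⟨N * p ^ e, ?_⟩) (IsNoetherian.noetherian _)
  rw [pow_mul]
  exact Ideal.mem_map_of_mem (iterateFrobenius A p e) (ha (Ideal.pow_mem_pow hx N))

theorem length_fr_ne_top {a : Ideal A} {N : ℕ} (ha : maximalIdeal A ^ N ≤ a) (e : ℕ) (J : Ideal A) :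
    Module.length A (A ⧸ (fr p a e ⊔ J)) ≠ ⊤ := by
  obtain ⟨M, hM⟩ := exists_pow_le_fr p ha e
  exact length_quotient_ne_top (hM.trans le_sup_left)

theorem length_fr_ne_top' {a : Ideal A} {N : ℕ} (ha : maximalIdeal A ^ N ≤ a) (e : ℕ) :
    Module.length A (A ⧸ fr p a e) ≠ ⊤ := by
  obtain ⟨M, hM⟩ := exists_pow_le_fr p ha e
  exact length_quotient_ne_top hM

theorem abs_toNat_sub_le {d : ℕ} {f g h h' : ℕ → ℕ∞} (hh : Small p d h) (hh' : Small p d h')
    (hfg : ∀ e, f e ≤ g e + h e) (hgf : ∀ e, g e ≤ f e + h' e) (hf : ∀ e, f e ≠ ⊤) (hg : ∀ e, g e ≠ ⊤) :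
    ∃ K : ℝ, ∀ e, |((f e).toNat : ℝ) - ((g e).toNat : ℝ)| / (p : ℝ) ^ (d * e) ≤ K * (1 / 2) ^ e := by
  obtain ⟨K, hK⟩ := hh
  obtain ⟨K', hK'⟩ := hh'
  have hp2 : 2 ≤ p := (Fact.out : p.Prime).two_le
  refine ⟨K + K', fun e => ?_⟩
  have key : ∀ (f g h : ℕ → ℕ∞) (K : ℕ), f e ≤ g e + h e → g e ≠ ⊤ →
      ((p ^ e : ℕ) : ℕ∞) * h e ≤ ((K * p ^ (d * e) : ℕ) : ℕ∞) →
      p ^ e * (f e).toNat ≤ p ^ e * (g e).toNat + K * p ^ (d * e) := fun f g h K h1 hg h2 => by
    have h3 : ((p ^ e : ℕ) : ℕ∞) * f e ≤ ((p ^ e : ℕ) : ℕ∞) * g e + ((K * p ^ (d * e) : ℕ) : ℕ∞) :=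
      (mul_le_mul_right h1 _).trans (by rw [mul_add]; exact add_le_add le_rfl h2)
    obtain ⟨G, hG⟩ := ENat.ne_top_iff_exists.1 hg
    rw [← hG, ← Nat.cast_mul, ← Nat.cast_add] at h3
    have h4 := ENat.toNat_le_toNat h3 (ENat.natCast_ne_top _)
    rw [ENat.toNat_mul, ENat.toNat_natCast, ENat.toNat_natCast] at h4
    rwa [← hG, ENat.toNat_natCast]
  have h1 : (p : ℝ) ^ e * (f e).toNat ≤ (p : ℝ) ^ e * (g e).toNat + K * (p : ℝ) ^ (d * e) := by
    exact_mod_cast key f g h K (hfg e) (hg e) (hK e)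
  have h2 : (p : ℝ) ^ e * (g e).toNat ≤ (p : ℝ) ^ e * (f e).toNat + K' * (p : ℝ) ^ (d * e) := by
    exact_mod_cast key g f h' K' (hgf e) (hf e) (hK' e)
  have hpe : (2 : ℝ) ^ e ≤ (p : ℝ) ^ e := pow_le_pow_left₀ (by norm_num) (by exact_mod_cast hp2) e
  have hpos : (0 : ℝ) < (p : ℝ) ^ (d * e) := by positivity
  have habs : (p : ℝ) ^ e * |((f e).toNat : ℝ) - ((g e).toNat : ℝ)| ≤ (K + K') * (p : ℝ) ^ (d * e) := by
    have hK0 : (0 : ℝ) ≤ K * (p : ℝ) ^ (d * e) := by positivity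
    have hK0' : (0 : ℝ) ≤ K' * (p : ℝ) ^ (d * e) := by positivity
    rw [← abs_of_pos (show (0 : ℝ) < (p : ℝ) ^ e by positivity), ← abs_mul, abs_le]
    constructor <;> rw [mul_sub, add_mul] <;> linarith
  rw [div_le_iff₀ hpos, one_div, inv_pow, mul_assoc, mul_comm (((2 : ℝ) ^ e)⁻¹), ← mul_assoc,
    le_mul_inv_iff₀ (by positivity)]
  calc |((f e).toNat : ℝ) - ((g e).toNat : ℝ)| * 2 ^ e ≤ |((f e).toNat : ℝ) - ((g e).toNat : ℝ)| * (p : ℝ) ^ e :=
        mul_le_mul_of_nonneg_left hpe (abs_nonneg _)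
    _ ≤ _ := by rw [mul_comm]; exact habs

omit [CharP A p] [IsLocalRing A] [IsNoetherianRing A] [Fact p.Prime] in
theorem exists_pos_limit {v : ℕ → ℝ} {α β ρ K : ℝ} (hα : 0 < α) (hlo : ∀ e, α ≤ v e) (hhi : ∀ e, v e ≤ β)
    (h : ∀ e, |v (e + 1) - ρ * v e| ≤ K * (1 / 2) ^ e) : ∃ c, 0 < c ∧ Tendsto v atTop (𝓝 c) := by
  have hρ : ρ = 1 := by
    by_contra hne
    set δ := |ρ - 1| * α / 2 with hδ
    have hδpos : 0 < δ := by
      have : 0 < |ρ - 1| := abs_pos.2 (sub_ne_zero.2 hne)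
      positivity
    have hlim : Tendsto (fun e : ℕ => K * (1 / 2 : ℝ) ^ e) atTop (𝓝 0) := by
      simpa using (tendsto_pow_atTop_nhds_zero_of_lt_one (by norm_num : (0 : ℝ) ≤ 1 / 2) (by norm_num)).const_mul K
    obtain ⟨M, hM⟩ := eventually_atTop.1 (hlim.eventually (eventually_le_nhds hδpos))
    rcases lt_or_gt_of_ne hne with hlt | hgt
    · have step : ∀ e, M ≤ e → v (e + 1) ≤ v e - δ := fun e he => by
        have h1 := (abs_le.1 (h e)).2
        have h2 := hM e he
        have h3 : δ * 2 ≤ (1 - ρ) * v e := by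
          rw [hδ, abs_of_neg (sub_neg.2 hlt), div_mul_cancel₀ _ two_ne_zero, neg_sub]
          exact mul_le_mul_of_nonneg_left (hlo e) (by linarith)
        linarith
      have iter : ∀ j : ℕ, v (M + j) ≤ v M - j * δ := fun j => by
        induction j with
        | zero => simp
        | succ j ih => have := step (M + j) (Nat.le_add_right _ _); push_cast; rw [add_assoc] at this; linarith
      obtain ⟨j, hj⟩ := exists_nat_gt (β / δ)
      rw [div_lt_iff₀ hδpos] at hj
      have := iter j; have := hlo (M + j); have := hhi M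
      linarith
    · have step : ∀ e, M ≤ e → v e + δ ≤ v (e + 1) := fun e he => by
        have h1 := (abs_le.1 (h e)).1
        have h2 := hM e he
        have h3 : δ * 2 ≤ (ρ - 1) * v e := by
          rw [hδ, abs_of_pos (sub_pos.2 hgt), div_mul_cancel₀ _ two_ne_zero]
          exact mul_le_mul_of_nonneg_left (hlo e) (by linarith)
        linarith
      have iter : ∀ j : ℕ, v M + j * δ ≤ v (M + j) := fun j => by
        induction j with
        | zero => simp
        | succ j ih => have := step (M + j) (Nat.le_add_right _ _); push_cast; rw [add_assoc] at this; linarith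
      obtain ⟨j, hj⟩ := exists_nat_gt (β / δ)
      rw [div_lt_iff₀ hδpos] at hj
      have := iter j; have := hlo M; have := hhi (M + j)
      linarith
  subst hρ
  have hdist : ∀ e, dist (v e) (v (e + 1)) ≤ K * (1 / 2) ^ e := fun e => by
    have := h e
    rw [one_mul] at this
    rwa [dist_comm, Real.dist_eq]
  obtain ⟨c, hc⟩ := cauchySeq_tendsto_of_complete (cauchySeq_of_le_geometric (1 / 2) K (by norm_num) hdist)
  exact ⟨c, lt_of_lt_of_le hα (ge_of_tendsto' hc hlo), hc⟩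

/-- The normalised Frobenius length function. -/
noncomputable def hk (d : ℕ) (a : Ideal A) (e : ℕ) : ℝ :=
  ((Module.length A (A ⧸ fr p a e)).toNat : ℝ) / (p : ℝ) ^ (d * e)

theorem exists_bounds {d : ℕ} (hd : ringKrullDim A = d) {a : Ideal A} (ham : a ≤ maximalIdeal A) {N : ℕ}
    (ha : maximalIdeal A ^ N ≤ a) :
    ∃ α β : ℝ, 0 < α ∧ (∀ e, α ≤ hk p d a e) ∧ ∀ e, hk p d a e ≤ β := by
  obtain ⟨K, hK⟩ := Groth.MonConj.exists_pow_le_mul_length d A hd.ge
  obtain ⟨C, hC⟩ := exists_length_fr_sup_le p a ha ⊥ bot_ne_top d (by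
    rw [(RingEquiv.quotientBot A).ringKrullDim, hd])
  refine ⟨1 / (K + 1), C, by positivity, fun e => ?_, fun e => ?_⟩
  · have hsub : fr p a e ≤ maximalIdeal A ^ (p ^ e) := by
      refine Ideal.map_le_iff_le_comap.2 fun x hx => ?_
      exact Ideal.pow_mem_pow (ham hx) _
    have h1 := (hK (p ^ e) (Nat.one_le_pow _ _ (Fact.out : p.Prime).pos)).trans
      (mul_le_mul_right (length_quotient_anti hsub) _)
    have h2 := ENat.toNat_le_toNat h1 (WithTop.mul_ne_top (ENat.natCast_ne_top _) (length_fr_ne_top' p ha e))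
    rw [ENat.toNat_natCast, ENat.toNat_mul, ENat.toNat_natCast, ← pow_mul, mul_comm e d] at h2
    have hpos : (0 : ℝ) < (p : ℝ) ^ (d * e) := by
      have := (Fact.out : p.Prime).pos
      positivity
    rw [hk, le_div_iff₀ hpos, div_mul_eq_mul_div, one_mul, div_le_iff₀ (by positivity)]
    have h3 : ((p : ℝ) ^ (d * e)) ≤ (K : ℝ) * ((Module.length A (A ⧸ fr p a e)).toNat : ℝ) := by exact_mod_cast h2
    nlinarith [Nat.cast_nonneg (α := ℝ) (Module.length A (A ⧸ fr p a e)).toNat]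
  · have hpos : (0 : ℝ) < (p : ℝ) ^ (d * e) := by
      have := (Fact.out : p.Prime).pos
      positivity
    rw [hk, div_le_iff₀ hpos]
    have h1 := hC e
    rw [sup_bot_eq] at h1
    have h2 := ENat.toNat_le_toNat h1 (ENat.natCast_ne_top _)
    rw [ENat.toNat_natCast] at h2
    exact_mod_cast h2

theorem exists_limit_domain [IsDomain A] (hF : (frobenius A p).Finite)
    (hres : ∀ b : A, ∃ a : A, b - a ^ p ∈ maximalIdeal A) {d : ℕ} (hd : ringKrullDim A = d) {a : Ideal A}
    (ham : a ≤ maximalIdeal A) {N : ℕ} (ha : maximalIdeal A ^ N ≤ a) :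
    ∃ c, 0 < c ∧ Tendsto (hk p d a) atTop (𝓝 c) := by
  have := finite_pw p A 1 hF
  obtain ⟨r, ⟨h, hh, hle⟩, ⟨h', hh', hle'⟩⟩ := exists_close p hd a ha (Pw p A 1) fun x hx m => by
    rw [(mem_nilradical.1 hx).eq_zero, zero_smul]
  set R : ℕ := ∑ P, r P
  have hsum : ∀ e, (∑ P, (r P : ℕ∞) * Module.length A (A ⧸ (fr p a e ⊔ P.1))) =
      (R : ℕ∞) * Module.length A (A ⧸ fr p a e) := fun e => by
    rw [Nat.cast_sum, Finset.sum_mul]
    refine Finset.sum_congr rfl fun P _ => ?_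
    have hP : P.1 = ⊥ := by
      have := mem_minimalPrimes_of_mem_topPrimes hd ((Set.Finite.mem_toFinset _).1 P.2)
      rw [IsDomain.minimalPrimes_eq_singleton_bot] at this
      exact this
    rw [hP, sup_bot_eq]
  have hlen : ∀ e, len (fr p a e) (Pw p A 1) = Module.length A (A ⧸ fr p a (e + 1)) := fun e => by
    obtain ⟨M, hM⟩ := exists_pow_le_fr p ha (e + 1)
    rw [← fr_fr]
    exact length_pw p A 1 (fun b => by simpa using hres b) (fr p a e) (N := M) (by rw [← fr_fr] at hM; exact hM)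
  obtain ⟨K, hK⟩ := abs_toNat_sub_le p (f := fun e => Module.length A (A ⧸ fr p a (e + 1)))
    (g := fun e => (R : ℕ∞) * Module.length A (A ⧸ fr p a e)) hh hh'
    (fun e => by have := hle e; simp only [hlen, hsum] at this; exact this)
    (fun e => by have := hle' e; simp only [hlen, hsum] at this; exact this)
    (fun e => length_fr_ne_top' p ha _) (fun e => WithTop.mul_ne_top (ENat.natCast_ne_top _) (length_fr_ne_top' p ha e))
  obtain ⟨α, β, hα, hlo, hhi⟩ := exists_bounds p hd ham ha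
  have hp : (0 : ℝ) < p := by exact_mod_cast (Fact.out : p.Prime).pos
  refine exists_pos_limit (ρ := R / (p : ℝ) ^ d) (K := K / (p : ℝ) ^ d) hα hlo hhi fun e => ?_
  have h1 := hK e
  rw [ENat.toNat_mul, ENat.toNat_natCast, Nat.cast_mul] at h1
  have hkey : hk p d a (e + 1) - (R : ℝ) / (p : ℝ) ^ d * hk p d a e =
      (((Module.length A (A ⧸ fr p a (e + 1))).toNat : ℝ) -
        R * ((Module.length A (A ⧸ fr p a e)).toNat : ℝ)) / (p : ℝ) ^ (d * e) / (p : ℝ) ^ d := by
    simp only [hk, mul_add, mul_one, pow_add]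
    field_simp
  rw [hkey, abs_div, abs_div, abs_of_pos (pow_pos hp _), abs_of_pos (pow_pos hp _), div_mul_eq_mul_div]
  exact div_le_div_of_nonneg_right h1 (pow_pos hp _).le

/-- The Hilbert-Kunz limit. -/
theorem exists_limit (hF : (frobenius A p).Finite) [PerfectField (ResidueField A)] {d : ℕ}
    (hd : ringKrullDim A = d) {a : Ideal A}
    (ham : a ≤ maximalIdeal A) {N : ℕ} (ha : maximalIdeal A ^ N ≤ a) :
    ∃ c, 0 < c ∧ Tendsto (hk p d a) atTop (𝓝 c) := by
  obtain ⟨n, hn⟩ := IsNoetherianRing.isNilpotent_nilradical A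
  have := finite_pw p A n hF
  have hkill : ∀ x ∈ nilradical A, ∀ m : Pw p A n, x • m = 0 := fun x hx m => by
    rw [Algebra.smul_def, algebraMap_pw]
    have h0 : x ^ n = 0 := by
      have := Ideal.pow_mem_pow hx n
      rwa [hn] at this
    rw [pow_eq_zero_of_le (Nat.lt_pow_self (Fact.out : p.Prime).one_lt).le h0, map_zero, zero_mul]
  obtain ⟨r, ⟨h, hh, hle⟩, ⟨h', hh', hle'⟩⟩ := exists_close p hd a ha (Pw p A n) hkill
  let T := (topPrimes_finite (A := A) hd).toFinset
  have hlim : ∀ P : T, ∃ c, Tendsto (fun e => ((Module.length A (A ⧸ (fr p a e ⊔ P.1))).toNat : ℝ) /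
      (p : ℝ) ^ (d * e)) atTop (𝓝 c) := fun P => by
    obtain ⟨hP, hPd⟩ := (Set.Finite.mem_toFinset _).1 P.2
    have : IsLocalRing (A ⧸ P.1) := IsLocalRing.of_surjective' _ Ideal.Quotient.mk_surjective
    have : CharP (A ⧸ P.1) p := (CharP.charP_iff_prime_eq_zero (Fact.out : p.Prime)).2 (by
      rw [← map_natCast (Ideal.Quotient.mk P.1), CharP.cast_eq_zero, map_zero])
    let mk : A →+* A ⧸ P.1 := Ideal.Quotient.mk P.1
    have hmm : (maximalIdeal A).map mk = maximalIdeal (A ⧸ P.1) :=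
      Groth.MonConj.map_maximalIdeal_of_surjective mk Ideal.Quotient.mk_surjective
    have hF' : (frobenius (A ⧸ P.1) p).Finite := by
      refine RingHom.Finite.of_comp_finite (f := mk) ?_
      rw [show (frobenius (A ⧸ P.1) p).comp mk = mk.comp (frobenius A p) from
        RingHom.ext fun x => (map_pow mk x p).symm]
      exact (RingHom.Finite.of_surjective mk Ideal.Quotient.mk_surjective).comp hF
    obtain ⟨c, -, hc⟩ := exists_limit_domain p (A := A ⧸ P.1) hF' (fun b => by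
      obtain ⟨b, rfl⟩ := Ideal.Quotient.mk_surjective b
      obtain ⟨x, hx⟩ := exists_pow_sub_mem p A 1 b
      refine ⟨mk x, ?_⟩
      rw [← hmm, ← map_pow, ← map_sub]
      exact Ideal.mem_map_of_mem _ (by simpa using hx)) hPd (a := a.map mk) (N := N)
      ((Ideal.map_mono ham).trans hmm.le) (by rw [← hmm, ← Ideal.map_pow]; exact Ideal.map_mono ha)
    refine ⟨c, ?_⟩
    convert hc using 1
    funext e
    simp only [hk]
    congr 2
    have h1 : fr p (a.map mk) e = (fr p a e).map mk := by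
      rw [fr, fr, Ideal.map_map, Ideal.map_map]
      congr 1
    rw [h1, ← Groth.MonConj.length_quot_ideal_eq (R := A) (S := A ⧸ P.1) Ideal.Quotient.mk_surjective,
      sup_comm]
    exact congrArg ENat.toNat (DoubleQuot.quotQuotEquivQuotSupₐ A P.1 (fr p a e)).toLinearEquiv.length_eq.symm
  choose c hc using hlim
  have hg : Tendsto (fun e => ∑ P : T, (r P : ℝ) *
      (((Module.length A (A ⧸ (fr p a e ⊔ P.1))).toNat : ℝ) / (p : ℝ) ^ (d * e))) atTop
      (𝓝 (∑ P : T, (r P : ℝ) * c P)) := tendsto_finsetSum _ fun P _ => (hc P).const_mul _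
  have hlen : ∀ e, len (fr p a e) (Pw p A n) = Module.length A (A ⧸ fr p a (e + n)) := fun e => by
    obtain ⟨M, hM⟩ := exists_pow_le_fr p ha (e + n)
    rw [← fr_fr]
    exact length_pw p A n (exists_pow_sub_mem p A n) (fr p a e) (N := M) (by rw [← fr_fr] at hM; exact hM)
  obtain ⟨K, hK⟩ := abs_toNat_sub_le p (f := fun e => Module.length A (A ⧸ fr p a (e + n)))
    (g := fun e => ∑ P : T, (r P : ℕ∞) * Module.length A (A ⧸ (fr p a e ⊔ P.1))) hh hh'
    (fun e => by have := hle e; simp only [hlen] at this; exact this)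
    (fun e => by have := hle' e; simp only [hlen] at this; exact this)
    (fun e => length_fr_ne_top' p ha _)
    (fun e => WithTop.sum_ne_top.2 fun P _ => WithTop.mul_ne_top (ENat.natCast_ne_top _) (length_fr_ne_top p ha e _))
  have hp : (0 : ℝ) < p := by exact_mod_cast (Fact.out : p.Prime).pos
  have hshift : Tendsto (fun e => ((Module.length A (A ⧸ fr p a (e + n))).toNat : ℝ) / (p : ℝ) ^ (d * e)) atTop
      (𝓝 (∑ P : T, (r P : ℝ) * c P)) := by
    refine tendsto_of_tendsto_of_dist hg (squeeze_zero (fun e => dist_nonneg) (fun e => ?_)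
      (by have := (tendsto_pow_atTop_nhds_zero_of_lt_one (by norm_num : (0 : ℝ) ≤ 1 / 2) (by norm_num)).const_mul K
          rwa [mul_zero] at this))
    refine le_trans (le_of_eq ?_) (hK e)
    have hs : (∑ P : T, (r P : ℕ∞) * Module.length A (A ⧸ (fr p a e ⊔ P.1))).toNat =
        ∑ P : T, ((r P : ℕ∞) * Module.length A (A ⧸ (fr p a e ⊔ P.1))).toNat :=
      ENat.toNat_sum fun P _ => WithTop.mul_ne_top (ENat.natCast_ne_top _) (length_fr_ne_top p ha e _)
    rw [Real.dist_eq, abs_sub_comm, hs, Nat.cast_sum]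
    simp only [ENat.toNat_mul, ENat.toNat_natCast, Nat.cast_mul, mul_div_assoc']
    rw [← Finset.sum_div, ← sub_div, abs_div, abs_of_pos (pow_pos hp _)]
  obtain ⟨α, β, hα, hlo, -⟩ := exists_bounds p hd ham ha
  have hlim : Tendsto (hk p d a) atTop (𝓝 ((∑ P : T, (r P : ℝ) * c P) / (p : ℝ) ^ (d * n))) := by
    rw [← tendsto_add_atTop_iff_nat n]
    refine (hshift.div_const ((p : ℝ) ^ (d * n))).congr fun e => ?_
    simp only [hk, mul_add, pow_add, div_div]
  exact ⟨_, lt_of_lt_of_le hα (ge_of_tendsto' hlim hlo), hlim⟩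

end Groth.FrobLCI.HK
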