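import Groth.Agent.FrobLCI.HK.Decomp
import Mathlib.RingTheory.FiniteLength
import Mathlib.RingTheory.SimpleModule.Basic
import Mathlib.FieldTheory.Perfect
import Mathlib.RingTheory.LocalRing.ResidueField.Basic
import Mathlib.RingTheory.Finiteness.Ideal

/-!
`A` as a module over itself through an iterate of Frobenius, and the invariance of lengths.
-/

universe u

namespace Groth.FrobLCI.HK

open IsLocalRing

theorem length_eq_of_forall_smul {A B X : Type u} [CommRing A] [CommRing B] [Algebra A B] [AddCommGroup X]
    [Module A X] [Module B X] [IsScalarTower A B X] (h : ∀ (b : B) (x : X), ∃ a : A, a • x = b • x) :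
    Module.length A X = Module.length B X := by
  let e : Submodule B X ≃o Submodule A X :=
    { toFun := fun S => S.restrictScalars A
      invFun := fun S => { S.toAddSubmonoid with
        smul_mem' := fun b x hx => by
          obtain ⟨a, ha⟩ := h b x
          rw [← ha]
          exact S.smul_mem a hx }
      left_inv := fun S => rfl
      right_inv := fun S => rfl
      map_rel_iff' := Iff.rfl }
  apply WithBot.coe_injective
  rw [Module.coe_length, Module.coe_length, Order.krullDim_eq_of_orderIso e]

theorem length_restrictScalars_eq {A B : Type u} [CommRing A] [CommRing B] [IsLocalRing B] [Algebra A B]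
    (hres : ∀ b : B, ∃ a : A, b - algebraMap A B a ∈ maximalIdeal B)
    (X : Type u) [AddCommGroup X] [Module A X] [Module B X] [IsScalarTower A B X]
    (hX : IsFiniteLength B X) : Module.length A X = Module.length B X := by
  suffices ∀ (Y : Type u) [AddCommGroup Y] [Module B Y], IsFiniteLength B Y →
      ∀ [Module A Y] [IsScalarTower A B Y], Module.length A Y = Module.length B Y from this X hX
  intro Y _ _ hY
  induction hY with
  | of_subsingleton => intro _ _; rw [Module.length_eq_zero, Module.length_eq_zero]
  | @of_simple_quotient Y _ _ N _ _ ih =>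
    intro _ _
    rw [Module.length_eq_add_of_exact N.subtype N.mkQ N.injective_subtype N.mkQ_surjective
        (LinearMap.exact_subtype_mkQ N),
      Module.length_eq_add_of_exact (N.subtype.restrictScalars A) (N.mkQ.restrictScalars A)
        N.injective_subtype N.mkQ_surjective (LinearMap.exact_subtype_mkQ N), ih]
    congr 1
    refine length_eq_of_forall_smul fun b x => ?_
    obtain ⟨a, ha⟩ := hres b
    refine ⟨a, ?_⟩
    have hmax : (Module.annihilator B (Y ⧸ N)).IsMaximal := IsSimpleModule.annihilator_isMaximal
    rw [← eq_maximalIdeal hmax] at ha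
    have h0 := Module.mem_annihilator.1 ha x
    rw [sub_smul, algebraMap_smul, sub_eq_zero] at h0
    exact h0.symm

/-- `A` as an algebra over itself through `x ↦ x ^ (p ^ k)`. -/
def Pw (_p : ℕ) (A : Type u) (_k : ℕ) : Type u := A

variable (p : ℕ) [Fact p.Prime] (A : Type u) [CommRing A] [CharP A p] (k : ℕ)

instance : CommRing (Pw p A k) := inferInstanceAs (CommRing A)

/-- The identity `A → Pw p A k`. -/
def toPw : A ≃+* Pw p A k := RingEquiv.refl A

noncomputable instance : Algebra A (Pw p A k) :=
  ((toPw p A k : A →+* Pw p A k).comp (iterateFrobenius A p k)).toAlgebra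

theorem algebraMap_pw (a : A) : algebraMap A (Pw p A k) a = toPw p A k (a ^ p ^ k) := rfl

instance [IsLocalRing A] : IsLocalRing (Pw p A k) := inferInstanceAs (IsLocalRing A)

theorem finite_iterateFrobenius (hF : (frobenius A p).Finite) : (iterateFrobenius A p k).Finite := by
  induction k with
  | zero =>
    rw [show iterateFrobenius A p 0 = RingHom.id A from RingHom.ext fun x => by simp [iterateFrobenius_def]]
    exact RingHom.Finite.id A
  | succ k ih =>
    rw [show iterateFrobenius A p (k + 1) = (frobenius A p).comp (iterateFrobenius A p k) from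
      RingHom.ext fun x => by simp [iterateFrobenius_def, frobenius_def, pow_succ, pow_mul]]
    exact hF.comp ih

theorem finite_pw (hF : (frobenius A p).Finite) : Module.Finite A (Pw p A k) :=
  (RingHom.Finite.of_surjective (toPw p A k : A →+* Pw p A k) (toPw p A k).surjective).comp
    (finite_iterateFrobenius p A k hF)

theorem exists_pow_sub_mem [IsLocalRing A] [PerfectField (ResidueField A)] (b : A) :
    ∃ a : A, b - a ^ p ^ k ∈ maximalIdeal A := by
  have : CharP (ResidueField A) p := (CharP.charP_iff_prime_eq_zero (Fact.out : p.Prime)).2 (by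
    rw [← map_natCast (IsLocalRing.residue A), CharP.cast_eq_zero, map_zero])
  have : PerfectRing (ResidueField A) p := PerfectField.toPerfectRing p
  obtain ⟨r, hr⟩ := (bijective_iterateFrobenius (R := ResidueField A) (p := p) (n := k)).2 (residue A b)
  obtain ⟨a, rfl⟩ := residue_surjective r
  refine ⟨a, ?_⟩
  rw [← residue_eq_zero_iff, map_sub, map_pow, ← hr, iterateFrobenius_def, sub_self]

theorem length_pw [IsLocalRing A] [IsNoetherianRing A]
    (hk : ∀ b : A, ∃ a : A, b - a ^ p ^ k ∈ maximalIdeal A)
    (I : Ideal A) {N : ℕ} (hI : maximalIdeal A ^ N ≤ I.map (iterateFrobenius A p k)) :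
    len I (Pw p A k) = Module.length A (A ⧸ I.map (iterateFrobenius A p k)) := by
  let J : Ideal (Pw p A k) := I.map (algebraMap A (Pw p A k))
  have h1 : len I (Pw p A k) = Module.length A (Pw p A k ⧸ J) := by
    unfold len
    rw [(Submodule.quotEquivOfEq _ _ (Ideal.smul_top_eq_map I)).length_eq]
    exact (LinearEquiv.length_eq
      { toFun := id, invFun := id, left_inv := fun _ => rfl, right_inv := fun _ => rfl,
        map_add' := fun _ _ => rfl, map_smul' := fun _ _ => rfl })
  rw [h1]
  have hfin : IsFiniteLength (Pw p A k) (Pw p A k ⧸ J) := by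
    rw [← Module.length_ne_top_iff]
    exact length_quotient_ne_top (A := A) hI
  rw [length_restrictScalars_eq (fun b => (hk ((toPw p A k).symm b)).imp fun a ha => ha) _ hfin]
  rfl

end Groth.FrobLCI.HK
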