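import Mathlib.RingTheory.Length
import Mathlib.RingTheory.Ideal.KrullsHeightTheorem
import Mathlib.RingTheory.KrullDimension.Basic
import Mathlib.RingTheory.KrullDimension.NonZeroDivisors
import Mathlib.Algebra.CharP.Frobenius
import Mathlib.RingTheory.Finiteness.Basic
import Mathlib.Tactic

/-!
Length estimates for Frobenius powers of an `m`-primary ideal.
-/

universe u

namespace Groth.FrobLCI.HK

open IsLocalRing

variable {A : Type u} [CommRing A]

/-- Length of `M / I M`. -/
noncomputable def len (I : Ideal A) (M : Type u) [AddCommGroup M] [Module A M] : ℕ∞ :=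
  Module.length A (M ⧸ (I • ⊤ : Submodule A M))

theorem length_le_add_of_exact {M N P : Type u} [AddCommGroup M] [Module A M] [AddCommGroup N] [Module A N]
    [AddCommGroup P] [Module A P] (f : M →ₗ[A] N) (g : N →ₗ[A] P) (h : Function.Exact f g)
    (hg : Function.Surjective g) :
    Module.length A N ≤ Module.length A M + Module.length A P := by
  rw [Module.length_eq_add_of_exact (LinearMap.range f).subtype g (Submodule.injective_subtype _) hg
    (fun y => by rw [h y]; simp [Set.range, LinearMap.mem_range])]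
  exact add_le_add (Module.length_le_of_surjective f.rangeRestrict f.surjective_rangeRestrict) le_rfl

theorem len_self (I : Ideal A) : len I A = Module.length A (A ⧸ I) := by
  unfold len
  exact (Submodule.quotEquivOfEq _ _ (by rw [smul_eq_mul, Ideal.mul_top])).length_eq

theorem length_quotient_anti {I J : Ideal A} (h : I ≤ J) :
    Module.length A (A ⧸ J) ≤ Module.length A (A ⧸ I) :=
  Module.length_le_of_surjective (Submodule.factor h) (Submodule.factor_surjective h)

theorem len_anti {I J : Ideal A} (h : I ≤ J) (M : Type u) [AddCommGroup M] [Module A M] :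
    len J M ≤ len I M :=
  Module.length_le_of_surjective (Submodule.factor (Submodule.smul_mono h le_rfl))
    (Submodule.factor_surjective _)

/-- Right exactness of `M ↦ M / I M`. -/
theorem len_le_add {M N : Type u} [AddCommGroup M] [Module A M] [AddCommGroup N] [Module A N]
    (I : Ideal A) (f : M →ₗ[A] N) :
    len I N ≤ len I M + len I (N ⧸ LinearMap.range f) := by
  let f' : (M ⧸ (I • ⊤ : Submodule A M)) →ₗ[A] (N ⧸ (I • ⊤ : Submodule A N)) :=
    Submodule.mapQ _ _ f (Submodule.smul_le.2 fun r hr m _ => by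
      rw [Submodule.mem_comap, map_smul]; exact Submodule.smul_mem_smul hr trivial)
  let g' : (N ⧸ (I • ⊤ : Submodule A N)) →ₗ[A]
      ((N ⧸ LinearMap.range f) ⧸ (I • ⊤ : Submodule A (N ⧸ LinearMap.range f))) :=
    Submodule.mapQ _ _ (LinearMap.range f).mkQ (Submodule.smul_le.2 fun r hr m _ => by
      rw [Submodule.mem_comap, map_smul]; exact Submodule.smul_mem_smul hr trivial)
  refine length_le_add_of_exact f' g' (fun y => ?_) fun z => ?_
  · obtain ⟨n, rfl⟩ := Submodule.Quotient.mk_surjective _ y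
    constructor
    · intro hy
      have h1 : (LinearMap.range f).mkQ n ∈ (I • ⊤ : Submodule A (N ⧸ LinearMap.range f)) := by
        rwa [Submodule.mapQ_apply, Submodule.Quotient.mk_eq_zero] at hy
      have hmap : (I • ⊤ : Submodule A N).map (LinearMap.range f).mkQ = I • ⊤ := by
        rw [Submodule.map_smul'', Submodule.map_top, Submodule.range_mkQ]
      rw [← hmap] at h1
      obtain ⟨z, hz, hzn⟩ := h1
      have h2 : n - z ∈ LinearMap.range f := (Submodule.Quotient.eq _).1 hzn.symm
      obtain ⟨m, hm⟩ := h2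
      refine ⟨Submodule.Quotient.mk m, ?_⟩
      rw [Submodule.mapQ_apply, Submodule.Quotient.eq, hm, sub_sub_cancel_left]
      exact neg_mem hz
    · rintro ⟨x, hx⟩
      obtain ⟨m, rfl⟩ := Submodule.Quotient.mk_surjective _ x
      rw [← hx, Submodule.mapQ_apply, Submodule.mapQ_apply, Submodule.mkQ_apply,
        (Submodule.Quotient.mk_eq_zero _).2 (LinearMap.mem_range_self f m), Submodule.Quotient.mk_zero]
  · obtain ⟨w, rfl⟩ := Submodule.Quotient.mk_surjective _ z
    obtain ⟨n, rfl⟩ := Submodule.Quotient.mk_surjective _ w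
    exact ⟨Submodule.Quotient.mk n, rfl⟩

/-- A module killed by `J` with `n` generators: `length (M / I M) ≤ n * length (A / (I + J))`. -/
theorem exists_len_le (M : Type u) [AddCommGroup M] [Module A M] [Module.Finite A M] (J : Ideal A)
    (hJ : ∀ j ∈ J, ∀ m : M, j • m = 0) :
    ∃ n : ℕ, ∀ I : Ideal A, len I M ≤ n * Module.length A (A ⧸ (I ⊔ J)) := by
  obtain ⟨n, f, hf⟩ := Module.Finite.exists_fin' A M
  refine ⟨n, fun I => ?_⟩
  have key : ∀ i : Fin n, I ⊔ J ≤ LinearMap.ker
      ((Submodule.mkQ (I • ⊤ : Submodule A M)).comp (LinearMap.toSpanSingleton A M (f (Pi.single i 1)))) :=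
    fun i c hc => by
      obtain ⟨a, ha, b, hb, rfl⟩ := Submodule.mem_sup.1 hc
      rw [LinearMap.mem_ker, LinearMap.comp_apply, LinearMap.toSpanSingleton_apply, Submodule.mkQ_apply,
        Submodule.Quotient.mk_eq_zero, add_smul, hJ b hb, add_zero]
      exact Submodule.smul_mem_smul ha trivial
  let g : (Fin n → A ⧸ (I ⊔ J)) →ₗ[A] M ⧸ (I • ⊤ : Submodule A M) :=
    ∑ i, (Submodule.liftQ _ _ (key i)).comp (LinearMap.proj i)
  have hg : Function.Surjective g := fun z => by
    obtain ⟨m, rfl⟩ := Submodule.Quotient.mk_surjective _ z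
    obtain ⟨c, rfl⟩ := hf m
    refine ⟨fun i => Submodule.Quotient.mk (c i), ?_⟩
    conv_rhs => rw [← (Pi.basisFun A (Fin n)).sum_repr c]
    simp only [g, LinearMap.sum_apply, LinearMap.comp_apply, LinearMap.proj_apply, ← Submodule.mkQ_apply,
      map_sum, map_smul, Pi.basisFun_repr, Pi.basisFun_apply]
    exact Finset.sum_congr rfl fun i _ => map_smul (Submodule.mkQ _) (c i) _
  refine le_trans (Module.length_le_of_surjective g hg) (le_of_eq ?_)
  rw [Module.length_pi_of_fintype, Finset.sum_const, Finset.card_univ, Fintype.card_fin, nsmul_eq_mul]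

theorem length_step (J : Ideal A) (x : A) (s : ℕ) :
    Module.length A (A ⧸ (Ideal.span {x ^ s} ⊔ J)) ≤
      (s : ℕ∞) * Module.length A (A ⧸ (Ideal.span {x} ⊔ J)) := by
  induction s with
  | zero =>
    rw [pow_zero, Ideal.span_singleton_one, top_sup_eq]
    have : Subsingleton (A ⧸ (⊤ : Ideal A)) := Ideal.Quotient.subsingleton_iff.2 rfl
    rw [Module.length_eq_zero]
    exact zero_le
  | succ s ih =>
    have h1 : (Ideal.span {x ^ s} ⊔ J) ≤ Submodule.comap (LinearMap.mulLeft A x)
        (Ideal.span {x ^ (s + 1)} ⊔ J) := fun c hc => by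
      obtain ⟨a, ha, b, hb, rfl⟩ := Submodule.mem_sup.1 hc
      obtain ⟨r, rfl⟩ := Ideal.mem_span_singleton'.1 ha
      rw [Submodule.mem_comap, LinearMap.mulLeft_apply, mul_add]
      exact Submodule.mem_sup.2 ⟨r * x ^ (s + 1), Ideal.mem_span_singleton'.2 ⟨r, rfl⟩, x * b,
        J.mul_mem_left _ hb, by ring⟩
    have h2 : Ideal.span {x ^ (s + 1)} ⊔ J ≤ Ideal.span {x} ⊔ J :=
      sup_le_sup_right (Ideal.span_singleton_le_span_singleton.2 (dvd_pow_self x (by omega))) _
    refine (length_le_add_of_exact (Submodule.mapQ _ _ (LinearMap.mulLeft A x) h1) (Submodule.factor h2)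
      (fun y => ?_) (Submodule.factor_surjective h2)).trans (by push_cast; rw [add_mul, one_mul]; gcongr)
    obtain ⟨c, rfl⟩ := Submodule.Quotient.mk_surjective _ y
    constructor
    · intro hy
      obtain ⟨a, ha, b, hb, rfl⟩ := Submodule.mem_sup.1 ((Submodule.Quotient.mk_eq_zero _).1 hy)
      obtain ⟨r, rfl⟩ := Ideal.mem_span_singleton'.1 ha
      refine ⟨Submodule.Quotient.mk r, ?_⟩
      rw [Submodule.mapQ_apply, Submodule.Quotient.eq, LinearMap.mulLeft_apply, mul_comm x r,
        show r * x - (r * x + b) = -b by ring]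
      exact neg_mem (Submodule.mem_sup_right hb)
    · rintro ⟨z, hz⟩
      obtain ⟨r, rfl⟩ := Submodule.Quotient.mk_surjective _ z
      rw [← hz, Submodule.mapQ_apply, LinearMap.mulLeft_apply]
      exact (Submodule.Quotient.mk_eq_zero _).2
        (Submodule.mem_sup_left (Ideal.mem_span_singleton'.2 ⟨r, mul_comm r x⟩))

/-- `length (A / (x₁^s, …, xₙ^s, J)) ≤ s ^ n * length (A / (x₁, …, xₙ, J))`. -/
theorem length_box (s : ℕ) : ∀ {n : ℕ} (x : Fin n → A) (J : Ideal A),
    Module.length A (A ⧸ (Ideal.span (Set.range fun i => x i ^ s) ⊔ J)) ≤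
      ((s ^ n : ℕ) : ℕ∞) * Module.length A (A ⧸ (Ideal.span (Set.range x) ⊔ J)) := by
  intro n
  induction n with
  | zero =>
    intro x J
    rw [pow_zero, Nat.cast_one, one_mul, Set.range_eq_empty, Set.range_eq_empty]
  | succ n ih =>
    intro x J
    have hsplit : ∀ y : Fin (n + 1) → A,
        Ideal.span (Set.range y) = Ideal.span {y 0} ⊔ Ideal.span (Set.range (Fin.tail y)) := fun y => by
      rw [← Ideal.span_union]
      congr 1
      conv_lhs => rw [← Fin.cons_self_tail y, Fin.range_cons]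
      exact Set.insert_eq _ _
    rw [hsplit, hsplit x]
    have h1 := ih (Fin.tail x) (Ideal.span {x 0 ^ s} ⊔ J)
    have h2 := length_step (Ideal.span (Set.range (Fin.tail x)) ⊔ J) (x 0) s
    rw [sup_left_comm, ← sup_assoc, sup_comm (Ideal.span (Set.range (Fin.tail x)))] at h1
    calc _ ≤ _ := h1
      _ ≤ ((s ^ n : ℕ) : ℕ∞) * ((s : ℕ∞) * Module.length A
            (A ⧸ (Ideal.span {x 0} ⊔ (Ideal.span (Set.range (Fin.tail x)) ⊔ J)))) := by
        rw [sup_assoc, sup_comm J]
        gcongr
      _ = _ := by rw [sup_assoc, ← mul_assoc]; push_cast; rw [pow_succ]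

section Local

variable [IsLocalRing A] [IsNoetherianRing A]

theorem length_quotient_ne_top {I : Ideal A} {N : ℕ} (h : maximalIdeal A ^ N ≤ I) :
    Module.length A (A ⧸ I) ≠ ⊤ := by
  refine ne_top_of_le_ne_top ?_ (length_quotient_anti h)
  clear h
  induction N with
  | zero =>
    have : Subsingleton (A ⧸ maximalIdeal A ^ 0) := Ideal.Quotient.subsingleton_iff.2 (by simp)
    rw [Module.length_eq_zero]
    exact ENat.zero_ne_top
  | succ N ih =>
    obtain ⟨n, x, hx⟩ := Submodule.fg_iff_exists_fin_generating_family.1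
      (IsNoetherian.noetherian (maximalIdeal A ^ N))
    have hle : maximalIdeal A ^ (N + 1) ≤ maximalIdeal A ^ N := Ideal.pow_le_pow_right N.le_succ
    have hxm : ∀ i, x i ∈ maximalIdeal A ^ N := fun i => hx ▸ Submodule.subset_span ⟨i, rfl⟩
    have key : ∀ i : Fin n, maximalIdeal A ≤ LinearMap.ker
        ((Submodule.mkQ (maximalIdeal A ^ (N + 1))).comp (LinearMap.toSpanSingleton A A (x i))) :=
      fun i c hc => by
        rw [LinearMap.mem_ker, LinearMap.comp_apply, Submodule.mkQ_apply, Submodule.Quotient.mk_eq_zero,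
          LinearMap.toSpanSingleton_apply, smul_eq_mul, pow_succ']
        exact Ideal.mul_mem_mul hc (hxm i)
    let g : (Fin n → A ⧸ maximalIdeal A) →ₗ[A] A ⧸ maximalIdeal A ^ (N + 1) :=
      ∑ i, (Submodule.liftQ _ _ (key i)).comp (LinearMap.proj i)
    have hex : Function.Exact g (Submodule.factor hle) := fun y => by
      obtain ⟨c, rfl⟩ := Submodule.Quotient.mk_surjective _ y
      constructor
      · intro hy
        have hc : c ∈ maximalIdeal A ^ N := (Submodule.Quotient.mk_eq_zero _).1 hy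
        rw [← hx] at hc
        obtain ⟨a, rfl⟩ := (Submodule.mem_span_range_iff_exists_fun A).1 hc
        refine ⟨fun i => Submodule.Quotient.mk (a i), ?_⟩
        simp only [g, LinearMap.sum_apply, LinearMap.comp_apply, LinearMap.proj_apply, ← Submodule.mkQ_apply,
          map_sum]
        exact Finset.sum_congr rfl fun i _ => map_smul (Submodule.mkQ _) (a i) _
      · rintro ⟨z, hz⟩
        rw [← hz]
        simp only [g, LinearMap.sum_apply, map_sum, LinearMap.comp_apply, LinearMap.proj_apply]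
        refine Finset.sum_eq_zero fun i _ => ?_
        obtain ⟨a, ha⟩ := Submodule.Quotient.mk_surjective _ (z i)
        rw [← ha]
        exact (Submodule.Quotient.mk_eq_zero _).2 (Ideal.mul_mem_left _ a (hxm i))
    refine ne_top_of_le_ne_top ?_ (length_le_add_of_exact _ _ hex (Submodule.factor_surjective hle))
    have : IsSimpleModule A (A ⧸ maximalIdeal A) :=
      isSimpleModule_iff_isCoatom.2 (maximalIdeal.isMaximal A).out
    rw [Module.length_pi_of_fintype, Finset.sum_const, Module.length_eq_one, nsmul_one]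
    exact WithTop.add_ne_top.2 ⟨ENat.natCast_ne_top _, ih⟩

variable (p : ℕ) [Fact p.Prime] [CharP A p]

/-- Frobenius powers of an ideal. -/
noncomputable abbrev fr (a : Ideal A) (e : ℕ) : Ideal A := a.map (iterateFrobenius A p e)

/-- `f e = O (p ^ ((d - 1) e))`. -/
def Small (d : ℕ) (f : ℕ → ℕ∞) : Prop :=
  ∃ K : ℕ, ∀ e, ((p ^ e : ℕ) : ℕ∞) * f e ≤ ((K * p ^ (d * e) : ℕ) : ℕ∞)

theorem exists_length_fr_sup_le (a : Ideal A) {N : ℕ} (ha : maximalIdeal A ^ N ≤ a) (J : Ideal A)
    (hJ : J ≠ ⊤) (d : ℕ) (hd : ringKrullDim (A ⧸ J) ≤ d) :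
    ∃ K : ℕ, ∀ e, Module.length A (A ⧸ (fr p a e ⊔ J)) ≤ ((K * p ^ (d * e) : ℕ) : ℕ∞) := by
  have : Nontrivial (A ⧸ J) := Ideal.Quotient.nontrivial_iff.2 hJ
  have : IsLocalRing (A ⧸ J) := IsLocalRing.of_surjective' _ Ideal.Quotient.mk_surjective
  obtain ⟨s, hms, hcard⟩ := (maximalIdeal (A ⧸ J)).exists_finset_card_eq_height_of_isNoetherianRing
  have hn : s.card ≤ d := by
    rw [← maximalIdeal_height_eq_ringKrullDim, ← hcard] at hd
    exact_mod_cast hd
  have hrad : maximalIdeal (A ⧸ J) ≤ (Ideal.span (s : Set (A ⧸ J))).radical := by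
    rw [Ideal.radical_eq_sInf]
    refine le_sInf fun P hP => ?_
    have hPle : P ≤ maximalIdeal _ := le_maximalIdeal hP.2.ne_top
    exact hms.2 ⟨hP.2, hP.1⟩ hPle
  choose y hy using fun i : s => Ideal.Quotient.mk_surjective (I := J) i.1
  obtain ⟨n, hn', x, hx, hxmem⟩ : ∃ n ≤ d, ∃ x : Fin n → A,
      (∀ z ∈ s, ∃ i, Ideal.Quotient.mk J (x i) = z) ∧ ∀ i, x i ∈ maximalIdeal A :=
    ⟨s.card, hn, fun i => y (s.equivFin.symm i), fun z hz =>
      ⟨s.equivFin ⟨z, hz⟩, by simp [hy]⟩, fun i => by
      rw [mem_maximalIdeal, mem_nonunits_iff]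
      intro hu
      have h1 := hu.map (Ideal.Quotient.mk J)
      rw [hy] at h1
      exact hms.1.2 (Ideal.subset_span (s.equivFin.symm i).2) h1⟩
  have := IsLocalHom.of_surjective (Ideal.Quotient.mk J) Ideal.Quotient.mk_surjective
  have hradA : maximalIdeal A ≤ (Ideal.span (Set.range x) ⊔ J).radical := fun c hc => by
    have h1 : Ideal.Quotient.mk J c ∈ maximalIdeal (A ⧸ J) := by
      rw [mem_maximalIdeal, mem_nonunits_iff] at hc ⊢
      exact fun hu => hc ((isUnit_map_iff _ c).1 hu)
    obtain ⟨k, hk⟩ := hrad h1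
    refine ⟨k, ?_⟩
    have hsub : (Ideal.span (Set.range x)).map (Ideal.Quotient.mk J) =
        (Ideal.span (Set.range x) ⊔ J).map (Ideal.Quotient.mk J) := by
      rw [Ideal.map_sup, Ideal.map_quotient_self, sup_bot_eq]
    have h2 : Ideal.Quotient.mk J (c ^ k) ∈ (Ideal.span (Set.range x) ⊔ J).map (Ideal.Quotient.mk J) := by
      rw [← hsub, map_pow, Ideal.map_span]
      refine Ideal.span_mono ?_ hk
      intro z hz
      obtain ⟨i, hi⟩ := hx z hz
      exact ⟨x i, ⟨i, rfl⟩, hi⟩
    exact (Ideal.mem_quotient_iff_mem le_sup_right).1 h2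
  -- make the parameters lie in `a`
  let w : Fin n → A := fun i => x i ^ (N + 1)
  have hw : ∀ i, w i ∈ a := fun i =>
    ha (Ideal.pow_le_pow_right N.le_succ (Ideal.pow_mem_pow (hxmem i) (N + 1)))
  have hwrad : maximalIdeal A ≤ (Ideal.span (Set.range w) ⊔ J).radical := by
    refine hradA.trans ?_
    rw [Ideal.radical_le_radical_iff]
    refine sup_le (Ideal.span_le.2 ?_) (le_sup_right.trans Ideal.le_radical)
    rintro _ ⟨i, rfl⟩
    exact ⟨N + 1, Submodule.mem_sup_left (Ideal.subset_span ⟨i, rfl⟩)⟩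
  obtain ⟨M, hM⟩ := Ideal.exists_pow_le_of_le_radical_of_fg hwrad (IsNoetherian.noetherian _)
  obtain ⟨C, hC⟩ := ENat.ne_top_iff_exists.1 (length_quotient_ne_top hM)
  refine ⟨C, fun e => ?_⟩
  calc Module.length A (A ⧸ (fr p a e ⊔ J))
      ≤ Module.length A (A ⧸ (Ideal.span (Set.range fun i => w i ^ (p ^ e)) ⊔ J)) := by
        refine length_quotient_anti (sup_le_sup_right (Ideal.span_le.2 ?_) _)
        rintro _ ⟨i, rfl⟩
        simpa [iterateFrobenius_def] using Ideal.mem_map_of_mem (iterateFrobenius A p e) (hw i)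
    _ ≤ (((p ^ e) ^ n : ℕ) : ℕ∞) * Module.length A (A ⧸ (Ideal.span (Set.range w) ⊔ J)) := length_box _ _ _
    _ ≤ _ := by
        rw [← hC, ← Nat.cast_mul, Nat.cast_le, mul_comm, ← pow_mul]
        exact Nat.mul_le_mul_left _ (Nat.pow_le_pow_right (Fact.out : p.Prime).pos (by nlinarith))

end Local

end Groth.FrobLCI.HK
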