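import Groth.Agent.FrobLCI.HK.Basic
import Mathlib.RingTheory.Ideal.MinimalPrime.Noetherian
import Mathlib.RingTheory.Nilpotent.Lemmas
import Mathlib.LinearAlgebra.LinearIndependent.Lemmas
import Mathlib.LinearAlgebra.Quotient.Basic

/-!
`length (M / a^[q] M)` agrees up to `O (q^(d-1))` with the sum over the top dimensional primes of
the generic rank times `length (A / (a^[q] + P))`.
-/

universe u

namespace Groth.FrobLCI.HK

open IsLocalRing

theorem exists_free_submodule {D : Type u} [CommRing D] [IsDomain D] (N : Type u) [AddCommGroup N] [Module D N]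
    [Module.Finite D N] :
    ∃ (r : ℕ) (φ : (Fin r → D) →ₗ[D] N) (c : D), Function.Injective φ ∧ c ≠ 0 ∧
      ∀ n : N, c • n ∈ LinearMap.range φ := by
  classical
  obtain ⟨m, g, hg⟩ := Module.Finite.exists_fin (R := D) (M := N)
  obtain ⟨s, hs, hmax⟩ := exists_maximal_linearIndepOn D g
  let b : Fin (Fintype.card s) → N := fun i => g ((Fintype.equivFin s).symm i)
  have hb : LinearIndependent D b := hs.comp _ (Fintype.equivFin s).symm.injective
  have hrange : Set.range b = g '' s := by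
    ext n
    constructor
    · rintro ⟨i, rfl⟩; exact ⟨_, ((Fintype.equivFin s).symm i).2, rfl⟩
    · rintro ⟨i, hi, rfl⟩; exact ⟨Fintype.equivFin s ⟨i, hi⟩, by simp [b]⟩
  let φ := Fintype.linearCombination D b
  have hφ : LinearMap.range φ = Submodule.span D (g '' s) := by
    rw [Fintype.range_linearCombination, hrange]
  have hinj : Function.Injective φ := Fintype.linearIndependent_iff.1 hb |> fun h => by
    rw [injective_iff_map_eq_zero]
    intro x hx
    exact funext (h x (by rwa [Fintype.linearCombination_apply] at hx))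
  have hc : ∀ i, ∃ c : D, c ≠ 0 ∧ c • g i ∈ LinearMap.range φ := fun i => by
    by_cases hi : i ∈ s
    · exact ⟨1, one_ne_zero, by rw [one_smul, hφ]; exact Submodule.subset_span ⟨i, hi, rfl⟩⟩
    · rw [hφ]; exact hmax i hi
  choose c hc0 hcmem using hc
  have hall : ∀ n, (∏ i, c i) • n ∈ LinearMap.range φ := fun n => by
    have : (⊤ : Submodule D N) ≤ (LinearMap.range φ).comap (LinearMap.lsmul D N (∏ i, c i)) := by
      rw [← hg, Submodule.span_le]
      rintro _ ⟨i, rfl⟩
      rw [SetLike.mem_coe, Submodule.mem_comap, LinearMap.lsmul_apply,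
        ← Finset.prod_erase_mul _ _ (Finset.mem_univ i), mul_smul]
      exact Submodule.smul_mem _ _ (hcmem i)
    exact this (Submodule.mem_top : n ∈ ⊤)
  exact ⟨_, φ, ∏ i, c i, hinj, Finset.prod_ne_zero_iff.2 fun i _ => hc0 i, hall⟩

theorem exists_maps_domain {D : Type u} [CommRing D] [IsDomain D] (N : Type u) [AddCommGroup N] [Module D N]
    [Module.Finite D N] :
    ∃ (r : ℕ) (φ : (Fin r → D) →ₗ[D] N) (ψ : N →ₗ[D] (Fin r → D)) (c : D), c ≠ 0 ∧
      (∀ n : N, c • n ∈ LinearMap.range φ) ∧ (∀ x : Fin r → D, c • x ∈ LinearMap.range ψ) := by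
  obtain ⟨r, φ, c, hinj, hc, hall⟩ := exists_free_submodule (D := D) N
  let e := LinearEquiv.ofInjective φ hinj
  refine ⟨r, φ, e.symm.toLinearMap.comp ((LinearMap.lsmul D N c).codRestrict _ hall), c, hc, hall,
    fun x => ⟨φ x, ?_⟩⟩
  apply e.injective
  rw [LinearMap.comp_apply, LinearEquiv.coe_coe, LinearEquiv.apply_symm_apply]
  exact Subtype.ext (show c • φ x = φ (c • x) from (map_smul φ c x).symm)

variable {A : Type u} [CommRing A]

theorem len_pi {ι : Type u} [Fintype ι] (I : Ideal A) (M : ι → Type u) [∀ i, AddCommGroup (M i)]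
    [∀ i, Module A (M i)] : len I (Π i, M i) = ∑ i, len I (M i) := by
  classical
  let f : (Π i, M i) →ₗ[A] Π i, (M i ⧸ (I • ⊤ : Submodule A (M i))) :=
    LinearMap.pi fun i => (Submodule.mkQ _).comp (LinearMap.proj i)
  have hf : Function.Surjective f := fun z => by
    choose y hy using fun i => Submodule.Quotient.mk_surjective _ (z i)
    exact ⟨y, funext hy⟩
  have hker : LinearMap.ker f = (I • ⊤ : Submodule A (Π i, M i)) := by
    refine le_antisymm (fun v hv => ?_) (Submodule.smul_le.2 fun a ha v _ => ?_)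
    · rw [← Finset.univ_sum_single v]
      refine Submodule.sum_mem _ fun i _ => ?_
      have h1 : v i ∈ (I • ⊤ : Submodule A (M i)) :=
        (Submodule.Quotient.mk_eq_zero _).1 (congrFun hv i)
      have h2 : (I • ⊤ : Submodule A (M i)).map (LinearMap.single A M i) ≤ I • ⊤ := by
        rw [Submodule.map_smul'']
        exact Submodule.smul_mono le_rfl le_top
      exact h2 ⟨v i, h1, rfl⟩
    · exact funext fun i => (Submodule.Quotient.mk_eq_zero _).2 (Submodule.smul_mem_smul ha trivial)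
  unfold len
  rw [← hker, (f.quotKerEquivOfSurjective hf).length_eq, Module.length_pi_of_fintype]

theorem len_quotient (I P : Ideal A) : len I (A ⧸ P) = Module.length A (A ⧸ (I ⊔ P)) := by
  have hmap : (I • ⊤ : Submodule A (A ⧸ P)) = Submodule.map P.mkQ (I : Submodule A A) := by
    conv_rhs => rw [← Ideal.mul_top I, ← smul_eq_mul, Submodule.map_smul'', Submodule.map_top, Submodule.range_mkQ]
  unfold len
  rw [((Submodule.quotEquivOfEq _ _ hmap).trans (Submodule.quotientQuotientEquivQuotientSup P I)).length_eq,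
    sup_comm]

/-- The primes of maximal dimension. -/
def topPrimes (A : Type u) [CommRing A] (d : ℕ) : Set (Ideal A) := {P | P.IsPrime ∧ ringKrullDim (A ⧸ P) = d}

theorem mem_minimalPrimes_of_mem_topPrimes {d : ℕ} (hd : ringKrullDim A = d) {P : Ideal A}
    (hP : P ∈ topPrimes A d) : P ∈ minimalPrimes A := by
  have := hP.1
  obtain ⟨Q, hQ, hQP⟩ := Ideal.exists_minimalPrimes_le (bot_le : (⊥ : Ideal A) ≤ P)
  by_contra hne
  have hlt : Q < P := lt_of_le_of_ne hQP fun h => hne (h ▸ hQ)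
  obtain ⟨s, hs⟩ := Order.le_krullDim_iff.1
    (show (d : WithBot ℕ∞) ≤ Order.krullDim (PrimeSpectrum.zeroLocus (R := A) (P : Set A)) from
      le_of_eq (hP.2.symm.trans (ringKrullDim_quotient P)))
  let t : LTSeries (PrimeSpectrum A) := s.map Subtype.val fun _ _ h => h
  have hhead : (⟨Q, hQ.1.1⟩ : PrimeSpectrum A) < t.head :=
    lt_of_lt_of_le (show (⟨Q, hQ.1.1⟩ : PrimeSpectrum A) < ⟨P, hP.1⟩ from hlt)
      ((PrimeSpectrum.mem_zeroLocus _ _).1 s.head.2)
  have hlen := Order.LTSeries.length_le_krullDim (t.cons _ hhead)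
  rw [show Order.krullDim (PrimeSpectrum A) = (d : WithBot ℕ∞) from hd] at hlen
  rw [RelSeries.cons_length, show t.length = d from hs] at hlen
  norm_cast at hlen
  omega

theorem topPrimes_finite [IsNoetherianRing A] {d : ℕ} (hd : ringKrullDim A = d) : (topPrimes A d).Finite :=
  (minimalPrimes.finite_of_isNoetherianRing A).subset fun _ hP => mem_minimalPrimes_of_mem_topPrimes hd hP

variable [IsLocalRing A] [IsNoetherianRing A] (p : ℕ) [Fact p.Prime] [CharP A p]

theorem small_of_killed {d : ℕ} (hd : ringKrullDim A = d) (a : Ideal A) {N : ℕ} (ha : maximalIdeal A ^ N ≤ a)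
    (M : Type u) [AddCommGroup M] [Module A M] [Module.Finite A M] {t : A} (ht : ∀ m : M, t • m = 0)
    (htop : ∀ P ∈ topPrimes A d, t ∉ P) : Small p d fun e => len (fr p a e) M := by
  obtain ⟨n, hn⟩ := exists_len_le M (Ideal.span {t}) fun j hj m => by
    obtain ⟨c, rfl⟩ := Ideal.mem_span_singleton'.1 hj
    rw [mul_smul, ht, smul_zero]
  by_cases hJ : Ideal.span {t} = ⊤
  · refine ⟨0, fun e => ?_⟩
    have h1 := hn (fr p a e)
    have : Subsingleton (A ⧸ (fr p a e ⊔ Ideal.span {t})) :=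
      Ideal.Quotient.subsingleton_iff.2 (by rw [hJ, sup_top_eq])
    rw [Module.length_eq_zero, mul_zero, nonpos_iff_eq_zero] at h1
    simp [h1]
  · have : Nontrivial (A ⧸ Ideal.span {t}) := Ideal.Quotient.nontrivial_iff.2 hJ
    have hdim : ∃ d' : ℕ, d' < d ∧ ringKrullDim (A ⧸ Ideal.span {t}) ≤ d' := by
      have hnot : ¬ (d : WithBot ℕ∞) ≤ ringKrullDim (A ⧸ Ideal.span {t}) := fun hle => by
        rw [ringKrullDim_quotient] at hle
        obtain ⟨s, hs⟩ := Order.le_krullDim_iff.1 hle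
        refine htop s.head.1.asIdeal ⟨s.head.1.isPrime, le_antisymm (hd ▸ ringKrullDim_quotient_le _) ?_⟩
          (((PrimeSpectrum.mem_zeroLocus _ _).1 s.head.2) (Ideal.mem_span_singleton_self t))
        rw [ringKrullDim_quotient]
        exact Order.le_krullDim_iff.2 ⟨LTSeries.mk s.length (fun i => ⟨(s i).1,
          (PrimeSpectrum.mem_zeroLocus _ _).2 (SetLike.coe_subset_coe.2 (show (s.head.1) ≤ (s i).1 from
            s.head_le i))⟩) (fun i j hij => s.strictMono hij), hs⟩
      rw [not_le] at hnot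
      have h0 : (0 : WithBot ℕ∞) ≤ ringKrullDim (A ⧸ Ideal.span {t}) := ringKrullDim_nonneg_of_nontrivial
      revert hnot h0
      generalize ringKrullDim (A ⧸ Ideal.span {t}) = x
      intro hnot h0
      induction x with
      | bot => simp at h0
      | coe x =>
        induction x with
        | top => exact absurd hnot (not_lt.2 (WithBot.coe_le_coe.2 le_top))
        | coe x => exact ⟨x, by exact_mod_cast hnot, le_rfl⟩
    obtain ⟨d', hd', hle⟩ := hdim
    obtain ⟨K, hK⟩ := exists_length_fr_sup_le p a ha _ hJ d' hle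
    refine ⟨n * K, fun e => ?_⟩
    refine le_trans (mul_le_mul_right ((hn _).trans (mul_le_mul_right (hK e) _)) _) ?_
    rw [← Nat.cast_mul, ← Nat.cast_mul, Nat.cast_le]
    calc p ^ e * (n * (K * p ^ (d' * e))) = n * K * p ^ (e + d' * e) := by rw [pow_add]; ring
      _ ≤ n * K * p ^ (d * e) := Nat.mul_le_mul_left _ (Nat.pow_le_pow_right (Fact.out : p.Prime).pos (by
        calc e + d' * e = (d' + 1) * e := by ring
          _ ≤ d * e := Nat.mul_le_mul_right _ hd'))

omit [IsLocalRing A] [IsNoetherianRing A] [CharP A p] [Fact p.Prime] in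
/-- `f` and `g` differ by `O (p ^ ((d-1) e))`. -/
def Close (d : ℕ) (f g : ℕ → ℕ∞) : Prop :=
  (∃ h, Small p d h ∧ ∀ e, f e ≤ g e + h e) ∧ (∃ h, Small p d h ∧ ∀ e, g e ≤ f e + h e)

/-- The decomposition along the primes of top dimension. -/
theorem exists_close {d : ℕ} (hd : ringKrullDim A = d) (a : Ideal A) {N : ℕ} (ha : maximalIdeal A ^ N ≤ a)
    (M : Type u) [AddCommGroup M] [Module A M] [Module.Finite A M]
    (hM : ∀ x ∈ nilradical A, ∀ m : M, x • m = 0) :
    ∃ r : (topPrimes_finite (A := A) hd).toFinset → ℕ, Close p d (fun e => len (fr p a e) M)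
      fun e => ∑ P, (r P : ℕ∞) * Module.length A (A ⧸ (fr p a e ⊔ P.1)) := by
  classical
  set T := (topPrimes_finite (A := A) hd).toFinset with hT
  have hTmem : ∀ P : T, P.1 ∈ topPrimes A d := fun P => (Set.Finite.mem_toFinset _).1 P.2
  have hTprime : ∀ P : T, P.1.IsPrime := fun P => (hTmem P).1
  have hmin : ∀ P : T, P.1 ∈ minimalPrimes A := fun P => mem_minimalPrimes_of_mem_topPrimes hd (hTmem P)
  -- indicator elements
  have hs : ∀ P : T, ∃ s : A, s ∉ P.1 ∧ (∀ Q ∈ minimalPrimes A, Q ≠ P.1 → s ∈ Q) := fun P => by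
    have := hTprime P
    have hnot : ¬ (∏ Q ∈ (minimalPrimes.finite_of_isNoetherianRing A).toFinset.erase P.1, Q) ≤ P.1 := fun hle => by
      obtain ⟨Q, hQ, hQP⟩ := (hTprime P).prod_le.1 hle
      obtain ⟨hne, hQmem⟩ := Finset.mem_erase.1 hQ
      have hQmin := (Set.Finite.mem_toFinset _).1 hQmem
      exact hne (le_antisymm hQP ((hmin P).2 hQmin.1 hQP))
    obtain ⟨s, hs, hsP⟩ := SetLike.not_le_iff_exists.1 hnot
    refine ⟨s, hsP, fun Q hQ hne => ?_⟩
    have h2 : (∏ Q ∈ (minimalPrimes.finite_of_isNoetherianRing A).toFinset.erase P.1, Q) ≤ Q :=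
      hQ.1.1.prod_le.2 ⟨Q, Finset.mem_erase.2 ⟨hne, (Set.Finite.mem_toFinset _).2 hQ⟩, le_rfl⟩
    exact h2 hs
  choose s hsP hsQ using hs
  have hkill : ∀ (P : T), ∀ x ∈ P.1, ∀ m : M, (s P * x) • m = 0 := fun P x hx m => hM _ (by
    rw [nilradical_eq_sInf]
    refine Submodule.mem_sInf.2 fun Q hQ => ?_
    have : Ideal.IsPrime (Q : Ideal A) := hQ
    obtain ⟨Q₀, hQ₀, hle⟩ := Ideal.exists_minimalPrimes_le (bot_le : (⊥ : Ideal A) ≤ Q)
    by_cases hne : Q₀ = P.1
    · exact Ideal.mul_mem_left Q _ (hle (hne ▸ hx))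
    · exact Ideal.mul_mem_right _ Q (hle (hsQ P Q₀ hQ₀ hne))) m
  -- maps at each prime
  have hex : ∀ P : T, ∃ (r : ℕ) (φ : (Fin r → A ⧸ P.1) →ₗ[A] M) (ψ : M →ₗ[A] (Fin r → A ⧸ P.1)) (c : A),
      c ∉ P.1 ∧ (∀ m : M, (s P * c) • m ∈ LinearMap.range φ) ∧ (∀ x : Fin r → A ⧸ P.1, c • x ∈ LinearMap.range ψ) := fun P => by
    have := hTprime P
    let N := M ⧸ (P.1 • ⊤ : Submodule A M)
    have : Module.Finite (A ⧸ P.1) N := Module.Finite.of_restrictScalars_finite A _ _
    obtain ⟨r, φ, ψ, c, hc, hφc, hψc⟩ := exists_maps_domain (D := A ⧸ P.1) N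
    obtain ⟨c, rfl⟩ := Ideal.Quotient.mk_surjective c
    let q : M →ₗ[A] N := Submodule.mkQ _
    choose v hv using fun j : Fin r => Submodule.mkQ_surjective (P.1 • ⊤ : Submodule A M) (φ (Pi.single j 1))
    have hker : ∀ j, P.1 ≤ LinearMap.ker (LinearMap.toSpanSingleton A M (s P • v j)) := fun j x hx => by
      rw [LinearMap.mem_ker, LinearMap.toSpanSingleton_apply, smul_smul, mul_comm, hkill P x hx]
    let Φ : (Fin r → A ⧸ P.1) →ₗ[A] M := ∑ j, (Submodule.liftQ _ _ (hker j)).comp (LinearMap.proj j)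
    have hΦ : ∀ w, q (Φ w) = s P • φ w := fun w => by
      choose b hb using fun j => Ideal.Quotient.mk_surjective (w j)
      have h1 : φ w = ∑ j, b j • φ (Pi.single j 1) := by
        conv_lhs => rw [← (Pi.basisFun (A ⧸ P.1) (Fin r)).sum_repr w]
        rw [map_sum]
        refine Finset.sum_congr rfl fun j _ => ?_
        rw [map_smul, Pi.basisFun_repr, Pi.basisFun_apply, ← hb, ← Ideal.Quotient.algebraMap_eq, algebraMap_smul]
      rw [h1, Finset.smul_sum]
      simp only [Φ, LinearMap.sum_apply, map_sum, LinearMap.comp_apply, LinearMap.proj_apply]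
      refine Finset.sum_congr rfl fun j _ => ?_
      rw [← hb]
      change q (b j • (s P • v j)) = _
      rw [map_smul, map_smul, smul_comm, ← hv]
    refine ⟨r, s P • Φ, (ψ.restrictScalars A).comp q, c * s P, fun hmem => ?_, fun m => ?_, fun x => ?_⟩
    · rcases (hTprime P).mem_or_mem hmem with h | h
      · exact hc (Ideal.Quotient.eq_zero_iff_mem.2 h)
      · exact hsP P h
    · obtain ⟨w, hw⟩ := hφc (q m)
      refine ⟨w, ?_⟩
      have h1 : q (Φ w - (s P * c) • m) = 0 := by
        rw [map_sub, hΦ, hw, map_smul, ← Ideal.Quotient.algebraMap_eq, algebraMap_smul, smul_smul, sub_self]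
      have h2 : ∀ z ∈ (P.1 • ⊤ : Submodule A M), s P • z = 0 := fun z hz => by
        refine Submodule.smul_induction_on hz (fun x hx m _ => ?_) fun a b ha hb => ?_
        · rw [smul_smul, hkill P x hx]
        · rw [smul_add, ha, hb, add_zero]
      have h3 := h2 _ ((Submodule.Quotient.mk_eq_zero _).1 h1)
      rw [smul_sub, sub_eq_zero, smul_smul] at h3
      rw [LinearMap.smul_apply, h3, mul_comm c]
    · obtain ⟨n, hn⟩ := hψc x
      obtain ⟨m, rfl⟩ := Submodule.mkQ_surjective _ n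
      refine ⟨s P • m, ?_⟩
      rw [map_smul, LinearMap.comp_apply, LinearMap.restrictScalars_apply, hn, ← Ideal.Quotient.algebraMap_eq,
        algebraMap_smul, smul_smul, mul_comm]
  choose r φ ψ c hcP hφc hψc using hex
  refine ⟨r, ?_⟩
  let X := Π P : T, (Fin (r P) → A ⧸ P.1)
  have hlenX : ∀ I : Ideal A, len I X = ∑ P : T, (r P : ℕ∞) * Module.length A (A ⧸ (I ⊔ P.1)) := fun I => by
    let e : X ≃ₗ[A] Π i : (Σ P : T, Fin (r P)), A ⧸ i.1.1 :=
      (LinearEquiv.piCurry A (fun (P : T) (_ : Fin (r P)) => A ⧸ P.1)).symm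
    have h1 : len I X = len I (Π i : (Σ P : T, Fin (r P)), A ⧸ i.1.1) :=
      (Submodule.Quotient.equiv _ _ e (by rw [Submodule.map_smul'', Submodule.map_top,
        LinearEquiv.range])).length_eq
    rw [h1, len_pi]
    simp only [len_quotient]
    rw [Finset.univ_sigma_univ.symm, Finset.sum_sigma]
    refine Finset.sum_congr rfl fun P _ => ?_
    refine (Finset.sum_const (Module.length A (A ⧸ (I ⊔ P.1)))).trans ?_
    rw [nsmul_eq_mul]
    congr 2
    exact (Finset.card_univ).trans (Fintype.card_fin _)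
  let Φ : X →ₗ[A] M := ∑ P, (φ P).comp (LinearMap.proj P)
  let Ψ : M →ₗ[A] X := LinearMap.pi ψ
  simp only [← hlenX]
  -- elements outside all top primes killing the cokernels
  have hsum : ∀ f : T → A, (∀ P, f P ∉ P.1) → (∀ P Q : T, P ≠ Q → f P ∈ Q.1) →
      ∀ Q ∈ topPrimes A d, (∑ P, f P) ∉ Q := fun f hf hf' Q hQ hmem => by
    let Q' : T := ⟨Q, (Set.Finite.mem_toFinset _).2 hQ⟩
    rw [← Finset.add_sum_erase _ _ (Finset.mem_univ Q')] at hmem
    exact hf Q' ((Ideal.add_mem_iff_left Q (Ideal.sum_mem _ fun P hP => hf' P Q' (Finset.mem_erase.1 hP).1)).1 hmem)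
  have hsmem : ∀ P Q : T, P ≠ Q → s P ∈ Q.1 := fun P Q hne => hsQ P Q.1 (hmin Q) fun h => hne (Subtype.ext h.symm)
  constructor
  · have hcok : ∀ z : M ⧸ LinearMap.range Φ, (∑ P, s P * c P) • z = 0 := fun z => by
      obtain ⟨m, rfl⟩ := Submodule.Quotient.mk_surjective _ z
      rw [← Submodule.Quotient.mk_smul, Submodule.Quotient.mk_eq_zero, Finset.sum_smul]
      refine Submodule.sum_mem _ fun P _ => ?_
      obtain ⟨w, hw⟩ := hφc P m
      refine ⟨Pi.single P w, ?_⟩
      simp only [Φ, LinearMap.sum_apply, LinearMap.comp_apply, LinearMap.proj_apply]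
      rw [Finset.sum_eq_single P (fun Q _ hne => by rw [LinearMap.proj_apply, Pi.single_eq_of_ne hne, map_zero])
        (fun h => absurd (Finset.mem_univ P) h), LinearMap.proj_apply, Pi.single_eq_same, hw]
    refine ⟨fun e => len (fr p a e) (M ⧸ LinearMap.range Φ), ?_, fun e => len_le_add _ Φ⟩
    exact small_of_killed p hd a ha _ hcok (hsum _
      (fun P h => ((hTprime P).mem_or_mem h).elim (hsP P) (hcP P))
      fun P Q hne => Q.1.mul_mem_right _ (hsmem P Q hne))
  · have hcok : ∀ z : X ⧸ LinearMap.range Ψ, (∑ P, s P * c P) • z = 0 := fun z => by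
      obtain ⟨x, rfl⟩ := Submodule.Quotient.mk_surjective _ z
      rw [← Submodule.Quotient.mk_smul, Submodule.Quotient.mk_eq_zero, Finset.sum_smul]
      refine Submodule.sum_mem _ fun P _ => ?_
      obtain ⟨m, hm⟩ := hψc P (x P)
      refine ⟨s P • m, funext fun Q => ?_⟩
      rw [LinearMap.pi_apply, map_smul, Pi.smul_apply]
      by_cases hne : P = Q
      · subst hne; rw [hm, smul_smul]
      · have h0 : ∀ (v : Fin (r Q) → A ⧸ Q.1) (t : A), t ∈ Q.1 → t • v = 0 := fun v t ht => funext fun j => by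
          rw [Pi.smul_apply, Algebra.smul_def, Ideal.Quotient.algebraMap_eq,
            Ideal.Quotient.eq_zero_iff_mem.2 ht, zero_mul, Pi.zero_apply]
        rw [h0 _ _ (hsmem P Q hne), h0 _ _ (Q.1.mul_mem_right _ (hsmem P Q hne))]
    refine ⟨fun e => len (fr p a e) (X ⧸ LinearMap.range Ψ), ?_, fun e => len_le_add _ Ψ⟩
    exact small_of_killed p hd a ha _ hcok (hsum _
      (fun P h => ((hTprime P).mem_or_mem h).elim (hsP P) (hcP P))
      fun P Q hne => Q.1.mul_mem_right _ (hsmem P Q hne))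

end Groth.FrobLCI.HK
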